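/-
Conjugates of an involution inside the 2-core of its centralizer, and singular subgroups.
-/
import Cfsg.Agent.Spor3T.Extraspecial
import Cfsg.Prelude.Def_Solvable
import Cfsg.Agent.KGroup.CharP
import Cfsg.Agent.Solvable.Basics

set_option autoImplicit false

namespace CfsgLib.Singular

open CfsgLib.Extra2

variable {G : Type*} [Group G]

theorem gen_map {P : Subgroup G} {c : G} (h : Gen P c) (e : G ≃* G) :
    Gen (P.map e.toMonoidHom) (e c) := by
  have hmem : ∀ {y : G}, y ∈ P.map e.toMonoidHom → ∃ x ∈ P, e x = y := fun hy =>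
    Subgroup.mem_map.1 hy
  have hcm : e c ∈ P.map e.toMonoidHom := Subgroup.mem_map_of_mem _ h.mem
  have hcomm : ∀ y ∈ P.map e.toMonoidHom, Commute y (e c) := fun y hy => by
    obtain ⟨x, hx, rfl⟩ := hmem hy
    exact (h.comm_z x hx).map e
  have hiff : ∀ y ∈ P.map e.toMonoidHom, (∀ w ∈ P.map e.toMonoidHom, Commute y w) →
      y = 1 ∨ y = e c := fun y hy hc => by
    obtain ⟨x, hx, rfl⟩ := hmem hy
    rcases h.center_iff x hx fun w hw => by
      have := (hc (e w) (Subgroup.mem_map_of_mem _ hw)).map e.symm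
      simpa using this with rfl | rfl
    · exact Or.inl (map_one e)
    · exact Or.inr rfl
  have hsq : e c * e c = 1 := by rw [← map_mul, h.sq, map_one]
  refine ⟨hcm, fun he => h.ne_one ((map_eq_one_iff e e.injective).1 he), hsq, hcomm, hiff, ?_, ?_, ?_⟩
  · ext y
    rw [mem_zpowers_iff hsq, Subgroup.mem_map]
    constructor
    · rintro ⟨w, hw, rfl⟩
      exact hiff _ w.2 fun v hv => congrArg Subtype.val (Subgroup.mem_center_iff.1 hw ⟨v, hv⟩).symm
    · rintro (rfl | rfl)
      · exact ⟨1, one_mem _, rfl⟩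
      · exact ⟨⟨_, hcm⟩, Subgroup.mem_center_iff.2 fun v => Subtype.ext (hcomm v v.2).eq, rfl⟩
  · intro a ha b hb
    obtain ⟨x, hx, rfl⟩ := hmem ha
    obtain ⟨y, hy, rfl⟩ := hmem hb
    simp only [← map_inv, ← map_mul]
    rcases h.comm x hx y hy with he | he <;> rw [he]
    · exact Or.inl (map_one e)
    · exact Or.inr rfl
  · intro a ha
    obtain ⟨x, hx, rfl⟩ := hmem ha
    simp only [← map_mul]
    rcases h.square x hx with he | he <;> rw [he]
    · exact Or.inl (map_one e)
    · exact Or.inr rfl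

/-- The assignment of 2-cores of centralizers, with the core at `z` extraspecial and self-centralizing. -/
structure CoreSetup (Q : G → Subgroup G) (z : G) : Prop where
  core : ∀ x : G, Q x = (Cfsg.pCore 2 ↥(Subgroup.centralizer ({x} : Set G))).map
    (Subgroup.centralizer ({x} : Set G)).subtype
  order : orderOf z = 2
  extra : Cfsg.IsExtraspecial 2 ↥(Q z)
  self : Subgroup.centralizer ((Q z : Subgroup G) : Set G) ≤ Q z

/-- An equivariant assignment of subgroups, extraspecial and self-centralizing at `z`. -/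
structure Setup (Q : G → Subgroup G) (z : G) : Prop where
  central : ∀ x : G, Q x ≤ Subgroup.centralizer ({x} : Set G)
  equiv : ∀ g x a : G, g * a * g⁻¹ ∈ Q (g * x * g⁻¹) ↔ a ∈ Q x
  gen : Gen (Q z) z
  self : Subgroup.centralizer ((Q z : Subgroup G) : Set G) ≤ Q z

variable {Q : G → Subgroup G} {z : G}

section Core

variable (S : CoreSetup Q z)
include S
theorem CoreSetup.le_centralizer (x : G) : Q x ≤ Subgroup.centralizer ({x} : Set G) :=
  (S.core x).le.trans (Subgroup.map_subtype_le _)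

theorem CoreSetup.comm_of_mem {x q : G} (hq : q ∈ Q x) : q * x = x * q :=
  Subgroup.mem_centralizer_singleton_iff.1 (S.le_centralizer x hq)

theorem CoreSetup.gen_z : Gen (Q z) z := by
  obtain ⟨c, hc⟩ := exists_gen S.extra
  have hz1 : z ≠ 1 := fun e => by
    have := S.order; rw [e, orderOf_one] at this; norm_num at this
  have hzQ : z ∈ Q z := S.self (Subgroup.mem_centralizer_iff.2 fun q hq => S.comm_of_mem hq)
  rcases hc.center_iff z hzQ (fun y hy => (S.comm_of_mem hy).symm) with e | e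
  · exact absurd e hz1
  · exact e ▸ hc

theorem CoreSetup.conj_le (g x : G) : (Q x).map (MulAut.conj g).toMonoidHom ≤ Q (g * x * g⁻¹) := by
  have hiff : ∀ a, a ∈ Subgroup.centralizer ({x} : Set G) ↔
      g * a * g⁻¹ ∈ Subgroup.centralizer ({g * x * g⁻¹} : Set G) := fun a => by
    rw [Subgroup.mem_centralizer_singleton_iff, Subgroup.mem_centralizer_singleton_iff]
    constructor
    · intro h
      calc g * a * g⁻¹ * (g * x * g⁻¹) = g * (a * x) * g⁻¹ := by group
        _ = g * (x * a) * g⁻¹ := by rw [h]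
        _ = _ := by group
    · intro h
      calc a * x = g⁻¹ * (g * a * g⁻¹ * (g * x * g⁻¹)) * g := by group
        _ = g⁻¹ * (g * x * g⁻¹ * (g * a * g⁻¹)) * g := by rw [h]
        _ = x * a := by group
  let e : Subgroup.centralizer ({x} : Set G) ≃* Subgroup.centralizer ({g * x * g⁻¹} : Set G) :=
    { toFun := fun a => ⟨g * a * g⁻¹, (hiff a).1 a.2⟩
      invFun := fun b => ⟨g⁻¹ * b * g, (hiff _).2 (by
        have hb : g * (g⁻¹ * (b : G) * g) * g⁻¹ = (b : G) := by group
        rw [hb]; exact b.2)⟩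
      left_inv := fun a => Subtype.ext (by show g⁻¹ * (g * (a : G) * g⁻¹) * g = a; group)
      right_inv := fun b => Subtype.ext (by show g * (g⁻¹ * (b : G) * g) * g⁻¹ = b; group)
      map_mul' := fun a b => Subtype.ext (by
        show g * ((a : G) * b) * g⁻¹ = g * a * g⁻¹ * (g * b * g⁻¹); group) }
  rw [S.core, S.core]
  rintro _ ⟨_, ⟨a, ha, rfl⟩, rfl⟩
  exact ⟨e a, CfsgLib.CharP.pCore_map_le e (Subgroup.mem_map_of_mem _ ha), rfl⟩

theorem CoreSetup.conj_mem_iff (g x a : G) : g * a * g⁻¹ ∈ Q (g * x * g⁻¹) ↔ a ∈ Q x := by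
  refine ⟨fun h => ?_, fun h => S.conj_le g x ⟨a, h, rfl⟩⟩
  have := S.conj_le g⁻¹ (g * x * g⁻¹) ⟨_, h, rfl⟩
  simpa [mul_assoc] using this

theorem CoreSetup.toSetup : Setup Q z :=
  ⟨S.le_centralizer, S.conj_mem_iff, S.gen_z, S.self⟩

end Core

variable (S : Setup Q z)
include S

theorem le_centralizer (x : G) : Q x ≤ Subgroup.centralizer ({x} : Set G) := S.central x

theorem comm_of_mem {x q : G} (hq : q ∈ Q x) : q * x = x * q :=
  Subgroup.mem_centralizer_singleton_iff.1 (le_centralizer S x hq)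

theorem gen_z : Gen (Q z) z := S.gen

theorem conj_mem_iff (g x a : G) : g * a * g⁻¹ ∈ Q (g * x * g⁻¹) ↔ a ∈ Q x := S.equiv g x a

theorem conj_le (g x : G) : (Q x).map (MulAut.conj g).toMonoidHom ≤ Q (g * x * g⁻¹) := by
  rintro _ ⟨a, ha, rfl⟩
  exact (S.equiv g x a).2 ha

theorem map_conj_eq (g x : G) : (Q x).map (MulAut.conj g).toMonoidHom = Q (g * x * g⁻¹) := by
  refine le_antisymm (conj_le S g x) fun b hb => ⟨g⁻¹ * b * g, ?_, by simp [mul_assoc]⟩
  rw [SetLike.mem_coe, ← conj_mem_iff S g x]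
  have hb' : g * (g⁻¹ * b * g) * g⁻¹ = b := by group
  rwa [hb']

theorem gen_conj {x : G} (hx : ∃ g : G, g * z * g⁻¹ = x) : Gen (Q x) x := by
  obtain ⟨g, rfl⟩ := hx
  have := gen_map (gen_z S) (MulAut.conj g)
  rw [map_conj_eq S] at this
  exact this

theorem self_conj {x : G} (hx : ∃ g : G, g * z * g⁻¹ = x) :
    Subgroup.centralizer ((Q x : Subgroup G) : Set G) ≤ Q x := by
  obtain ⟨g, rfl⟩ := hx
  intro y hy
  have h : g⁻¹ * y * g ∈ Q z := S.self (Subgroup.mem_centralizer_iff.2 fun q hq => by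
    have := Subgroup.mem_centralizer_iff.1 hy _ ((conj_mem_iff S g z q).2 hq)
    calc q * (g⁻¹ * y * g) = g⁻¹ * (g * q * g⁻¹ * y) * g := by group
      _ = g⁻¹ * (y * (g * q * g⁻¹)) * g := by rw [this]
      _ = _ := by group)
  have := (conj_mem_iff S g z _).2 h
  have hy' : g * (g⁻¹ * y * g) * g⁻¹ = y := by group
  rwa [hy'] at this

theorem normal_of_comm {x c q : G} (hc : c * x = x * c) (hq : q ∈ Q x) : c * q * c⁻¹ ∈ Q x := by
  have h := (conj_mem_iff S c x q).2 hq
  rwa [show c * x * c⁻¹ = x by rw [hc, mul_inv_cancel_right]] at h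

end CfsgLib.Singular
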