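/-
The relation of lying in the 2-core of the centralizer is symmetric on a class of involutions.
-/
import Cfsg.Agent.Singular.Basic

set_option autoImplicit false

namespace CfsgLib.Singular

open CfsgLib.Extra2

variable {G : Type*} [Group G] [Finite G] {Q : G → Subgroup G} {z : G} (S : Setup Q z)
include S

theorem mem_symm {g : G} (hx : g * z * g⁻¹ ∈ Q z) : z ∈ Q (g * z * g⁻¹) := by
  set x := g * z * g⁻¹ with hxdef
  have hGz := gen_z S
  have hGx : Gen (Q x) x := gen_conj S ⟨g, rfl⟩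
  by_cases hxz : x = z
  · rw [hxz]; exact hGz.mem
  by_contra hzx
  have hx1 : x ≠ 1 := hGx.ne_one
  have hxx : x * x = 1 := hGx.sq
  have hzz : z * z = 1 := hGz.sq
  have hzinv : z⁻¹ = z := inv_eq_of_mul_eq_one_right hzz
  have hzcx : z * x = x * z := (comm_of_mem S hx).symm
  -- no element fixing `x` moves `z` to `z * x`
  have caseB : ∀ y ∈ Q x, y * z * y⁻¹ ≠ z * x := by
    intro y hy he
    obtain ⟨q, hq, hqx⟩ := exists_conj_mul hGz hx hx1 hxz
    have hqz : q * z * q⁻¹ = z := by rw [comm_of_mem S hq, mul_inv_cancel_right]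
    have hyx : y * x * y⁻¹ = x := by rw [comm_of_mem S hy, mul_inv_cancel_right]
    set h := q * y * q
    have hhz : h * z * h⁻¹ = x := by
      calc h * z * h⁻¹ = q * (y * (q * z * q⁻¹) * y⁻¹) * q⁻¹ := by simp only [h]; group
        _ = q * (z * x) * q⁻¹ := by rw [hqz, he]
        _ = (q * z * q⁻¹) * (q * x * q⁻¹) := by group
        _ = z * (x * z) := by rw [hqz, hqx]
        _ = x := by rw [← hzcx, ← mul_assoc, hzz, one_mul]
    have hhx : h * x * h⁻¹ = z := by
      calc h * x * h⁻¹ = q * (y * (q * x * q⁻¹) * y⁻¹) * q⁻¹ := by simp only [h]; group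
        _ = q * ((y * x * y⁻¹) * (y * z * y⁻¹)) * q⁻¹ := by rw [hqx]; group
        _ = q * (x * (z * x)) * q⁻¹ := by rw [hyx, he]
        _ = q * z * q⁻¹ := by rw [hzcx, ← mul_assoc x x z, hxx, one_mul]
        _ = z := hqz
    have := (conj_mem_iff S h z x).2 hx
    rw [hhz, hhx] at this
    exact hzx this
  -- fixed elements
  have hfix : ∀ v ∈ Q x, (v * z * v⁻¹ * z⁻¹ = 1 ∨ v * z * v⁻¹ * z⁻¹ = x) → v * z = z * v := by
    intro v hv h
    rcases h with h | h
    · exact mul_inv_eq_iff_eq_mul.1 (mul_inv_eq_one.1 h)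
    · exfalso
      apply caseB v hv
      rw [mul_inv_eq_iff_eq_mul] at h
      rw [h, hzcx]
  have hnorm : ∀ v ∈ Q x, z * v * z⁻¹ ∈ Q x := fun v hv => normal_of_comm S hzcx hv
  -- every element `v⁻¹ * (z * v * z)` commutes with `z`
  have hcommW : ∀ v ∈ Q x, (v⁻¹ * (z * v * z⁻¹)) * z = z * (v⁻¹ * (z * v * z⁻¹)) := by
    intro v hv
    set w := v⁻¹ * (z * v * z⁻¹)
    have hw : w ∈ Q x := mul_mem (inv_mem hv) (hnorm v hv)
    have hw2 : z * w * z⁻¹ = w⁻¹ := by
      simp only [w, hzinv, mul_inv_rev, inv_inv]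
      simp only [mul_assoc]
      simp only [hzz, mul_one]
    apply hfix w hw
    have : w * z * w⁻¹ * z⁻¹ = w * w := by
      calc w * z * w⁻¹ * z⁻¹ = w * (z * w * z⁻¹)⁻¹ := by group
        _ = w * w := by rw [hw2, inv_inv]
    rw [this]
    exact hGx.square w hw
  -- commutators in `Q x` are invariant under translation by `Q x` commuting with both arguments
  have hPclosed : ∀ u ∈ Q x, (∀ p ∈ Q x, p * z = z * p → u * p = p * u) → u * z = z * u := by
    intro u hu hc
    apply hfix u hu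
    set u' := z * u * z⁻¹ with hu'
    have hu'm : u' ∈ Q x := hnorm u hu
    have hu'c : ∀ p ∈ Q x, p * z = z * p → u' * p = p * u' := fun p hp hpz => by
      have hpz' : z⁻¹ * p = p * z⁻¹ := by
        rw [hzinv]; exact hpz.symm
      calc u' * p = z * (u * p) * z⁻¹ := by simp only [u', mul_assoc]; rw [hpz']
        _ = z * (p * u) * z⁻¹ := by rw [hc p hp hpz]
        _ = p * u' := by simp only [u', ← mul_assoc]; rw [← hpz]
    have hdiff : ∀ v ∈ Q x, (u' * u⁻¹) * v = v * (u' * u⁻¹) := by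
      intro v hv
      set w := v⁻¹ * (z * v * z⁻¹) with hw
      have hwm : w ∈ Q x := mul_mem (inv_mem hv) (hnorm v hv)
      have hvw : z * v * z⁻¹ = v * w := by rw [hw, mul_inv_cancel_left]
      have hcu : u' * w * u'⁻¹ = w := by rw [hu'c w hwm (hcommW v hv), mul_inv_cancel_right]
      have hc1 : ∀ c, (c = 1 ∨ c = x) → z * c * z⁻¹ = c ∧ ∀ q ∈ Q x, c * q = q * c := by
        rintro c (rfl | rfl)
        · simp
        · exact ⟨by rw [hzcx, mul_inv_cancel_right], fun q hq => (comm_of_mem S hq).symm⟩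
      obtain ⟨hcz, -⟩ := hc1 _ (hGx.comm u hu v hv)
      have key : u' * v * u'⁻¹ * v⁻¹ = u * v * u⁻¹ * v⁻¹ := by
        calc u' * v * u'⁻¹ * v⁻¹ = u' * v * (w * u'⁻¹ * w⁻¹) * v⁻¹ := by
              have : w * u'⁻¹ * w⁻¹ = u'⁻¹ := by
                have hcw : Commute u' w := hu'c w hwm (hcommW v hv)
                rw [← hcw.inv_left.eq, mul_inv_cancel_right]
              rw [this]
          _ = u' * (v * w) * u'⁻¹ * (v * w)⁻¹ := by group
          _ = z * (u * v * u⁻¹ * v⁻¹) * z⁻¹ := by rw [← hvw, hu']; group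
          _ = _ := hcz
      have e1 : u' * v * u'⁻¹ = u * v * u⁻¹ := mul_right_cancel key
      have hd2 := hGx.comm (u' * u⁻¹) (mul_mem hu'm (inv_mem hu)) v hv
      have hconj : (u' * u⁻¹) * (u * v * u⁻¹) * (u' * u⁻¹)⁻¹ = u * v * u⁻¹ := by
        calc (u' * u⁻¹) * (u * v * u⁻¹) * (u' * u⁻¹)⁻¹ = u' * v * u'⁻¹ := by group
          _ = u * v * u⁻¹ := e1
      -- transfer from `u v u⁻¹` back to `v`
      obtain ⟨c, hcm, hcv⟩ : ∃ c, (c = 1 ∨ c = x) ∧ u * v * u⁻¹ = c * v := by
        rcases hGx.comm u hu v hv with e | e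
        · exact ⟨1, Or.inl rfl, by rw [one_mul]; exact mul_inv_eq_one.1 e⟩
        · exact ⟨x, Or.inr rfl, mul_inv_eq_iff_eq_mul.1 e⟩
      have hcc := (hc1 c hcm).2 _ (mul_mem hu'm (inv_mem hu))
      rw [hcv] at hconj
      have : (u' * u⁻¹) * v * (u' * u⁻¹)⁻¹ = v := by
        apply mul_left_cancel (a := c)
        rw [← hconj]
        rw [← mul_assoc (u' * u⁻¹) c v, ← hcc]
        simp only [mul_assoc]
      exact mul_inv_eq_iff_eq_mul.1 this
    rcases hGx.center_iff _ (mul_mem hu'm (inv_mem hu)) hdiff with e | e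
    · left
      have h1 : z * u * z⁻¹ = u := mul_inv_eq_one.1 e
      calc u * z * u⁻¹ * z⁻¹ = u * (z * u * z⁻¹)⁻¹ := by group
        _ = 1 := by rw [h1, mul_inv_cancel]
    · right
      have h1 : z * u * z⁻¹ = x * u := mul_inv_eq_iff_eq_mul.1 e
      calc u * z * u⁻¹ * z⁻¹ = u * (z * u * z⁻¹)⁻¹ := by group
        _ = x⁻¹ := by rw [h1]; group
        _ = x := inv_eq_of_mul_eq_one_right hxx
  -- the part of `Q z` commuting with `x`
  set R := Q z ⊓ Subgroup.centralizer ({x} : Set G) with hR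
  have hzR : z ∈ R := ⟨hGz.mem, Subgroup.mem_centralizer_singleton_iff.2 hzcx⟩
  set E := Subgroup.closure ({z, x} : Set G) with hE
  have hEQ : E ≤ Q z := (Subgroup.closure_le _).2 (by
    rintro y (rfl | rfl)
    exacts [hGz.mem, hx])
  have hzE : z ∈ E := Subgroup.subset_closure (Or.inl rfl)
  have hxinv : x⁻¹ = x := inv_eq_of_mul_eq_one_right hxx
  have hEelt : ∀ y ∈ E, y = 1 ∨ y = z ∨ y = x ∨ y = z * x := by
    intro y hy
    have p1 : z * (z * x) = x := by rw [← mul_assoc, hzz, one_mul]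
    have p2 : z * x * z = x := by rw [hzcx, mul_assoc, hzz, mul_one]
    have p3 : x * (z * x) = z := by rw [hzcx, ← mul_assoc, hxx, one_mul]
    have p4 : z * x * x = z := by rw [mul_assoc, hxx, mul_one]
    have p5 : x * z = z * x := hzcx.symm
    have p6 : z * x * (z * x) = 1 := by rw [mul_assoc, p3, hzz]
    have hprod : ∀ a b : G, (a = 1 ∨ a = z ∨ a = x ∨ a = z * x) →
        (b = 1 ∨ b = z ∨ b = x ∨ b = z * x) → (a * b = 1 ∨ a * b = z ∨ a * b = x ∨ a * b = z * x) := by
      intro a b ha hb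
      rcases ha with ha | ha | ha | ha <;> rcases hb with hb | hb | hb | hb <;> rw [ha, hb]
      all_goals simp only [one_mul, mul_one, hzz, hxx, p1, p2, p3, p4, p5, p6, true_or, or_true]
    induction hy using Subgroup.closure_induction with
    | mem y hy => rcases hy with e | e <;> simp [show y = _ from e]
    | one => simp
    | mul a b _ _ ha hb => exact hprod a b ha hb
    | inv a _ ha =>
      have p7 : (z * x)⁻¹ = z * x := by rw [mul_inv_rev, hzinv, hxinv, hzcx]
      rcases ha with e | e | e | e <;> simp [e, hzinv, hxinv, p7]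
  have hRE : Q z ⊓ Subgroup.centralizer (E : Set G) = R := by
    rw [hE, Subgroup.centralizer_closure]
    ext y
    simp only [hR, Subgroup.mem_inf, Subgroup.mem_centralizer_iff, Set.mem_insert_iff,
      Set.mem_singleton_iff, forall_eq_or_imp, forall_eq]
    exact ⟨fun h => ⟨h.1, h.2.2⟩, fun h => ⟨h.1, (comm_of_mem S h.1).symm, h.2⟩⟩
  have hCR : Q z ⊓ Subgroup.centralizer (R : Set G) = E := by
    rw [← hRE]; exact centralizer_centralizer hGz hzE hEQ
  -- `D = R ⊓ Q x` is trivial modulo `x`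
  have hD : ∀ d ∈ Q z, d ∈ Q x → d = 1 ∨ d = x := by
    intro d hdz hdx
    have hdR : d ∈ Q z ⊓ Subgroup.centralizer (R : Set G) := by
      refine ⟨hdz, Subgroup.mem_centralizer_iff.2 fun r hr => ?_⟩
      obtain ⟨hrQ, hrx⟩ := hr
      rcases hGz.comm r hrQ d hdz with e | e
      · exact mul_inv_eq_iff_eq_mul.1 (mul_inv_eq_one.1 e)
      · exfalso
        apply hzx
        rw [← e]
        exact mul_mem (normal_of_comm S (Subgroup.mem_centralizer_singleton_iff.1 hrx) hdx) (inv_mem hdx)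
    rw [hCR] at hdR
    rcases hEelt d hdR with rfl | rfl | rfl | rfl
    · exact Or.inl rfl
    · exact absurd hdx hzx
    · exact Or.inr rfl
    · exfalso
      apply hzx
      have h1 := mul_mem hdx (inv_mem hGx.mem)
      rwa [mul_inv_cancel_right] at h1
  -- action of `R` on `Q x`
  have hfixP : ∀ r ∈ R, ∀ p ∈ Q x, p * z = z * p → r * p * r⁻¹ = p ∨ r * p * r⁻¹ = x * p := by
    intro r hr p hp hpz
    have h1 : r * p * r⁻¹ * p⁻¹ ∈ Q z := by
      rw [show r * p * r⁻¹ * p⁻¹ = r * (p * r⁻¹ * p⁻¹) by group]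
      exact mul_mem hr.1 (normal_of_comm S hpz (inv_mem hr.1))
    have h2 : r * p * r⁻¹ * p⁻¹ ∈ Q x :=
      mul_mem (normal_of_comm S (Subgroup.mem_centralizer_singleton_iff.1 hr.2) hp) (inv_mem hp)
    rcases hD _ h1 h2 with e | e
    · exact Or.inl (mul_inv_eq_one.1 e)
    · exact Or.inr (mul_inv_eq_iff_eq_mul.1 e)
  have hmoveP : ∀ r ∈ R, ∀ v ∈ Q x, (v⁻¹ * (r * v * r⁻¹)) * z = z * (v⁻¹ * (r * v * r⁻¹)) := by
    intro r hr v hv
    have hrv : r * v * r⁻¹ ∈ Q x :=
      normal_of_comm S (Subgroup.mem_centralizer_singleton_iff.1 hr.2) hv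
    refine hPclosed _ (mul_mem (inv_mem hv) hrv) fun p hp hpz => ?_
    obtain ⟨c, hcx, hc⟩ : ∃ c, (c = 1 ∨ c = x) ∧ r * p * r⁻¹ = c * p := by
      rcases hfixP r hr p hp hpz with e | e
      · exact ⟨1, Or.inl rfl, by rw [one_mul]; exact e⟩
      · exact ⟨x, Or.inr rfl, e⟩
    obtain ⟨d, hdx, hd⟩ : ∃ d, (d = 1 ∨ d = x) ∧ v * p * v⁻¹ = d * p := by
      rcases hGx.comm v hv p hp with e | e
      · exact ⟨1, Or.inl rfl, by rw [one_mul]; exact mul_inv_eq_one.1 e⟩
      · exact ⟨x, Or.inr rfl, mul_inv_eq_iff_eq_mul.1 e⟩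
    have hcen : ∀ a, (a = 1 ∨ a = x) → r * a * r⁻¹ = a ∧ ∀ q ∈ Q x, a * q = q * a := by
      rintro a (rfl | rfl)
      · simp
      · exact ⟨by rw [Subgroup.mem_centralizer_singleton_iff.1 hr.2, mul_inv_cancel_right],
          fun q hq => (comm_of_mem S hq).symm⟩
    have h3 : (r * v * r⁻¹) * p * (r * v * r⁻¹)⁻¹ = d * p := by
      have e := congrArg (fun t => r * t * r⁻¹) hd
      have el : r * (v * p * v⁻¹) * r⁻¹ =
          (r * v * r⁻¹) * (r * p * r⁻¹) * (r * v * r⁻¹)⁻¹ := by group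
      have er : r * (d * p) * r⁻¹ = (r * d * r⁻¹) * (r * p * r⁻¹) := by group
      simp only [el, er, (hcen d hdx).1, hc] at e
      rw [← mul_assoc (r * v * r⁻¹) c p, ← (hcen c hcx).2 _ hrv, mul_assoc c, mul_assoc c] at e
      have hdc : d * (c * p) = c * (d * p) := by
        rw [← mul_assoc, ← mul_assoc, (hcen d hdx).2 c ?_]
        rcases hcx with rfl | rfl
        exacts [one_mem _, hGx.mem]
      rw [hdc] at e
      exact mul_left_cancel e
    have h4 : v⁻¹ * (d * p) * v = p := by rw [← hd]; group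
    calc v⁻¹ * (r * v * r⁻¹) * p = v⁻¹ * ((r * v * r⁻¹) * p * (r * v * r⁻¹)⁻¹) * (r * v * r⁻¹) := by
          group
      _ = v⁻¹ * (d * p) * (r * v * r⁻¹) := by rw [h3]
      _ = (v⁻¹ * (d * p) * v) * (v⁻¹ * (r * v * r⁻¹)) := by group
      _ = p * (v⁻¹ * (r * v * r⁻¹)) := by rw [h4]
  -- commutators of `R` act trivially modulo `x`
  have hcommR : ∀ r ∈ R, ∀ s ∈ R, ∀ v ∈ Q x, ∃ c, (c = 1 ∨ c = x) ∧
      (r * s) * v * (r * s)⁻¹ = c * ((s * r) * v * (s * r)⁻¹) := by
    have hx2 : ∀ a b, (a = 1 ∨ a = x) → (b = 1 ∨ b = x) → (a * b = 1 ∨ a * b = x) := by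
      rintro a b (rfl | rfl) (rfl | rfl) <;> simp [hxx]
    have hcenx : ∀ a, (a = 1 ∨ a = x) → ∀ q ∈ Q x, a * q = q * a := by
      rintro a (rfl | rfl) q hq
      · simp
      · exact (comm_of_mem S hq).symm
    intro r hr s hs v hv
    obtain ⟨a, ha⟩ : ∃ a, a = v⁻¹ * (r * v * r⁻¹) := ⟨_, rfl⟩
    obtain ⟨b, hb⟩ : ∃ b, b = v⁻¹ * (s * v * s⁻¹) := ⟨_, rfl⟩
    have ham : a ∈ Q x := ha ▸ mul_mem (inv_mem hv)
      (normal_of_comm S (Subgroup.mem_centralizer_singleton_iff.1 hr.2) hv)
    have hbm : b ∈ Q x := hb ▸ mul_mem (inv_mem hv)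
      (normal_of_comm S (Subgroup.mem_centralizer_singleton_iff.1 hs.2) hv)
    have hrv : r * v * r⁻¹ = v * a := by rw [ha, mul_inv_cancel_left]
    have hsv : s * v * s⁻¹ = v * b := by rw [hb, mul_inv_cancel_left]
    obtain ⟨c1, hc1, e1⟩ : ∃ c, (c = 1 ∨ c = x) ∧ r * b * r⁻¹ = c * b := by
      rcases hfixP r hr b hbm (hb ▸ hmoveP s hs v hv) with e | e
      · exact ⟨1, Or.inl rfl, by rw [one_mul]; exact e⟩
      · exact ⟨x, Or.inr rfl, e⟩
    obtain ⟨c2, hc2, e2⟩ : ∃ c, (c = 1 ∨ c = x) ∧ s * a * s⁻¹ = c * a := by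
      rcases hfixP s hs a ham (ha ▸ hmoveP r hr v hv) with e | e
      · exact ⟨1, Or.inl rfl, by rw [one_mul]; exact e⟩
      · exact ⟨x, Or.inr rfl, e⟩
    obtain ⟨c3, hc3, e3⟩ : ∃ c, (c = 1 ∨ c = x) ∧ a * b = c * (b * a) := by
      refine ⟨a * b * a⁻¹ * b⁻¹, hGx.comm a ham b hbm, ?_⟩
      group
    have hinv : ∀ a, (a = 1 ∨ a = x) → a⁻¹ = a := by
      rintro a (rfl | rfl)
      · exact inv_one
      · exact inv_eq_of_mul_eq_one_right hxx
    refine ⟨c1 * c3 * c2, hx2 _ _ (hx2 _ _ hc1 hc3) hc2, ?_⟩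
    calc (r * s) * v * (r * s)⁻¹ = r * (s * v * s⁻¹) * r⁻¹ := by group
      _ = (r * v * r⁻¹) * (r * b * r⁻¹) := by rw [hsv]; group
      _ = v * a * (c1 * b) := by rw [hrv, e1]
      _ = c1 * (v * (a * b)) := by
          rw [← mul_assoc (v * a) c1, ← hcenx c1 hc1 _ (mul_mem hv ham)]
          simp only [mul_assoc]
      _ = c1 * c3 * (v * (b * a)) := by
          rw [e3, ← mul_assoc v c3, ← hcenx c3 hc3 _ hv]
          simp only [mul_assoc]
      _ = c1 * c3 * c2 * ((v * b) * (c2 * a)) := by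
          rw [← mul_assoc (v * b) c2, ← hcenx c2 hc2 _ (mul_mem hv hbm)]
          have hcc : c2 * c2 = 1 := by rcases hc2 with rfl | rfl <;> simp [hxx]
          simp only [← mul_assoc]
          rw [mul_assoc (c1 * c3) c2 c2, hcc, mul_one]
      _ = c1 * c3 * c2 * ((s * r) * v * (s * r)⁻¹) := by
          rw [← hsv, ← e2]
          have : (s * r) * v * (s * r)⁻¹ = s * (r * v * r⁻¹) * s⁻¹ := by group
          rw [this, hrv]
          group
  apply hzx
  by_cases hab : ∀ r ∈ R, ∀ s ∈ R, r * s = s * r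
  · -- small case: `Q z` has order eight
    exfalso
    have hRE' : R = E := by
      refine le_antisymm (hCR ▸ le_inf inf_le_left fun r hr =>
        Subgroup.mem_centralizer_iff.2 fun s hs => hab s hs r hr) ?_
      rw [hE, Subgroup.closure_le]
      rintro y (rfl | rfl)
      exacts [hzR, ⟨hx, Subgroup.mem_centralizer_singleton_iff.2 rfl⟩]
    have h1 := card_mul_card_centralizer hGz hzE hEQ
    rw [hRE, hRE'] at h1
    have hEcard : Nat.card E ≤ 4 := by
      have hsub : (E : Set G) ⊆ {1, z, x, z * x} := fun y hy => by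
        rcases hEelt y hy with e | e | e | e <;> simp [e]
      calc Nat.card E = (E : Set G).ncard := (Nat.card_coe_set_eq _)
        _ ≤ ({1, z, x, z * x} : Set G).ncard := Set.ncard_le_ncard hsub (Set.toFinite _)
        _ ≤ 4 := by
          refine (Set.ncard_insert_le _ _).trans ?_
          refine Nat.succ_le_succ ((Set.ncard_insert_le _ _).trans ?_)
          refine Nat.succ_le_succ ((Set.ncard_insert_le _ _).trans ?_)
          simp
    have hcard : Nat.card (Q x) ≤ 8 := by
      rw [← map_conj_eq S g z, Subgroup.card_map_of_injective (MulAut.conj g).injective]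
      nlinarith
    obtain ⟨v, hv, hvz⟩ : ∃ v ∈ Q x, v * z ≠ z * v := by
      by_contra hall
      simp only [not_exists, not_and, not_not] at hall
      exact hzx (self_conj S ⟨g, rfl⟩ (Subgroup.mem_centralizer_iff.2 hall))
    set w := v⁻¹ * (z * v * z⁻¹) with hw
    have hwm : w ∈ Q x := mul_mem (inv_mem hv) (hnorm v hv)
    have hwz := hcommW v hv
    rw [← hw] at hwz
    have hvx : v * z * v⁻¹ * z⁻¹ ≠ 1 ∧ v * z * v⁻¹ * z⁻¹ ≠ x :=
      ⟨fun e => hvz (hfix v hv (Or.inl e)), fun e => hvz (hfix v hv (Or.inr e))⟩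
    have hwn : w ≠ 1 ∧ w ≠ x := by
      have : v * z * v⁻¹ * z⁻¹ = v * w⁻¹ * v⁻¹ := by rw [hw]; group
      constructor <;> intro e <;> rw [e] at this
      · exact hvx.1 (by rw [this]; group)
      · apply hvx.2
        rw [this, inv_eq_of_mul_eq_one_right hxx, comm_of_mem S hv, mul_inv_cancel_right]
    have hwinv : z * w * z⁻¹ = w := by rw [← hwz, mul_inv_cancel_right]
    have hwinv2 : z * w * z⁻¹ = w⁻¹ := by
      simp only [hw, hzinv, mul_inv_rev, inv_inv]
      simp only [mul_assoc]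
      simp only [hzz, mul_one]
    have hww : w * w = 1 := by
      have := hwinv.symm.trans hwinv2
      exact (congrArg (fun t => w * t) this).trans (mul_inv_cancel w)
    have hwv : w * v = v * w := by
      have hsq : (v * w) * (v * w) = v * v := by
        have hzv : z * v * z⁻¹ = v * w := by rw [hw, mul_inv_cancel_left]
        rw [← hzv]
        calc z * v * z⁻¹ * (z * v * z⁻¹) = z * (v * v) * z⁻¹ := by group
          _ = v * v := by
            rcases hGx.square v hv with e | e <;> rw [e]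
            · group
            · rw [hzcx, mul_inv_cancel_right]
      have : w * v * w = v := by
        apply mul_left_cancel (a := v)
        calc v * (w * v * w) = (v * w) * (v * w) := by group
          _ = v * v := hsq
      calc w * v = w * v * (w * w) := by rw [hww, mul_one]
        _ = (w * v * w) * w := by group
        _ = v * w := by rw [this]
    -- an abelian subgroup filling `Q x`
    have hA : Q x ≤ Subgroup.centralizer ({v} : Set G) := by
      have hsub : Subgroup.closure ({x, w, v} : Set G) ≤ Q x := (Subgroup.closure_le _).2 (by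
        rintro y (rfl | rfl | rfl)
        exacts [hGx.mem, hwm, hv])
      have hall : Subgroup.closure ({x, w, v} : Set G) ≤ Subgroup.centralizer ({v} : Set G) :=
        (Subgroup.closure_le _).2 (by
          rintro y (rfl | rfl | rfl) <;> rw [SetLike.mem_coe, Subgroup.mem_centralizer_singleton_iff]
          · exact (comm_of_mem S hv).symm
          · exact hwv)
      have h8 : 8 ≤ Nat.card (Subgroup.closure ({x, w, v} : Set G)) := by
        set A := Subgroup.closure ({x, w, v} : Set G)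
        let W : Subgroup G := Subgroup.closure ({x, w} : Set G)
        have hWz : W ≤ Subgroup.centralizer ({z} : Set G) := (Subgroup.closure_le _).2 (by
          rintro y (rfl | rfl) <;> rw [SetLike.mem_coe, Subgroup.mem_centralizer_singleton_iff]
          · exact hzcx.symm
          · exact hwz)
        have hWA : W ≤ A := Subgroup.closure_mono (by simp [Set.insert_subset_iff])
        have hvA : v ∈ A := Subgroup.subset_closure (by simp)
        have hvW : v ∉ W := fun h => hvz (Subgroup.mem_centralizer_singleton_iff.1 (hWz h))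
        have hX : Subgroup.zpowers x ≤ W := Subgroup.zpowers_le.2 (Subgroup.subset_closure (by simp))
        have h2 : Nat.card (Subgroup.zpowers x) = 2 := by
          rw [Nat.card_zpowers, orderOf_gen hGx]
        have h4 : 4 ≤ Nat.card W := by
          obtain ⟨k, hk⟩ := Subgroup.card_dvd_of_le hX
          rw [h2] at hk
          by_contra hlt
          have hk1 : k = 1 := by
            have : 0 < Nat.card W := Nat.card_pos
            omega
          have := Subgroup.eq_of_le_of_card_ge hX (by rw [h2, hk, hk1])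
          have hwmem : w ∈ Subgroup.zpowers x := this ▸ Subgroup.subset_closure (by simp)
          rcases (mem_zpowers_iff hxx).1 hwmem with e | e
          exacts [hwn.1 e, hwn.2 e]
        obtain ⟨k, hk⟩ := Subgroup.card_dvd_of_le hWA
        by_contra hlt
        have hk1 : k = 1 := by
          have : 0 < Nat.card A := Nat.card_pos
          rcases k with _ | _ | k
          · omega
          · rfl
          · nlinarith
        have := Subgroup.eq_of_le_of_card_ge hWA (by rw [hk, hk1, mul_one])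
        exact hvW (this ▸ hvA)
      exact (Subgroup.eq_of_le_of_card_ge hsub (by omega)) ▸ hall
    rcases hGx.center_iff v hv fun y hy =>
      (Subgroup.mem_centralizer_singleton_iff.1 (hA hy)).symm with e | e
    · exact hvz (by rw [e]; group)
    · exact hvz (by rw [e, hzcx])
  simp only [not_forall] at hab
  obtain ⟨r, hr, s, hs, hrs⟩ := hab
  refine self_conj S ⟨g, rfl⟩ (Subgroup.mem_centralizer_iff.2 fun v hv => hfix v hv ?_)
  have hze : r * s = z * (s * r) := by
    rcases hGz.comm r hr.1 s hs.1 with e | e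
    · exact absurd (mul_inv_eq_iff_eq_mul.1 (mul_inv_eq_one.1 e)) hrs
    · calc r * s = (r * s * r⁻¹ * s⁻¹) * (s * r) := by group
        _ = z * (s * r) := by rw [e]
  obtain ⟨c, hc, hcv⟩ := hcommR r hr s hs ((s * r)⁻¹ * v * (s * r)) (by
    have hsr : (s * r)⁻¹ * x = x * (s * r)⁻¹ := by
      have h1 := mul_mem hs.2 hr.2
      exact Subgroup.mem_centralizer_singleton_iff.1 (inv_mem h1)
    have h2 := normal_of_comm S hsr hv
    rwa [inv_inv] at h2)
  rw [hze] at hcv
  have el : z * (s * r) * ((s * r)⁻¹ * v * (s * r)) * (z * (s * r))⁻¹ = z * v * z⁻¹ := by group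
  have er : (s * r) * ((s * r)⁻¹ * v * (s * r)) * (s * r)⁻¹ = v := by group
  rw [el, er] at hcv
  have : v * z * v⁻¹ * z⁻¹ = c⁻¹ := by
    calc v * z * v⁻¹ * z⁻¹ = v * (z * v * z⁻¹)⁻¹ := by group
      _ = v * (c * v)⁻¹ := by rw [hcv]
      _ = c⁻¹ := by group
  rw [this]
  rcases hc with rfl | rfl
  · exact Or.inl inv_one
  · exact Or.inr (inv_eq_of_mul_eq_one_right hxx)

end CfsgLib.Singular
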