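/-
The join and the intersection of the 2-cores attached to the involutions of a singular subgroup.
-/
import Cfsg.Agent.Singular.Basic

set_option autoImplicit false

namespace CfsgLib.Singular

open CfsgLib.Extra2

variable {G : Type*} [Group G] [Finite G] {Q : G → Subgroup G} {z : G} (S : Setup Q z)

/-- A singular elementary abelian 2-subgroup. -/
structure Sing (Q : G → Subgroup G) (z : G) (U : Subgroup G) : Prop where
  sq : ∀ u ∈ U, u * u = 1
  conj : ∀ u ∈ U, u ≠ 1 → ∃ g : G, g * z * g⁻¹ = u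
  orth : ∀ u ∈ U, ∀ v ∈ U, u ≠ 1 → v ≠ 1 → v ∈ Q u

variable {U : Subgroup G} (hU : Sing Q z U)
include S hU

theorem le_core {u : G} (hu : u ∈ U) (h1 : u ≠ 1) : U ≤ Q u := fun v hv => by
  by_cases hv1 : v = 1
  · rw [hv1]; exact one_mem _
  · exact hU.orth u hu v hv h1 hv1

theorem conj_mem_of_core {u q v : G} (hu : u ∈ U) (h1 : u ≠ 1) (hq : q ∈ Q u) (hv : v ∈ U) :
    q * v * q⁻¹ ∈ U := by
  rcases conj_eq (gen_conj S (hU.conj u hu h1)) hq (le_core S hU hu h1 hv) with e | e <;> rw [e]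
  exacts [hv, mul_mem hu hv]

omit S hU in
/-- The intersection of the cores over the nontrivial elements. -/
theorem mem_meet {x : G} : x ∈ (⨅ u ∈ ((U : Set G) \ {1}), Q u) ↔ ∀ u ∈ U, u ≠ 1 → x ∈ Q u := by
  simp only [Subgroup.mem_iInf, Set.mem_sdiff, SetLike.mem_coe, Set.mem_singleton_iff, and_imp]

omit S hU in
theorem core_le_join {u : G} (hu : u ∈ U) (h1 : u ≠ 1) : Q u ≤ ⨆ u ∈ ((U : Set G) \ {1}), Q u :=
  le_iSup₂_of_le u ⟨hu, by simpa using h1⟩ le_rfl

theorem le_meet : U ≤ ⨅ u ∈ ((U : Set G) \ {1}), Q u := fun v hv =>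
  mem_meet.2 fun _ hu h1 => le_core S hU hu h1 hv

omit S hU in
theorem meet_le_join {u : G} (hu : u ∈ U) (h1 : u ≠ 1) :
    (⨅ u ∈ ((U : Set G) \ {1}), Q u) ≤ ⨆ u ∈ ((U : Set G) \ {1}), Q u := fun _ hx =>
  core_le_join hu h1 (mem_meet.1 hx u hu h1)

theorem join_le_normalizer :
    (⨆ u ∈ ((U : Set G) \ {1}), Q u) ≤ Subgroup.normalizer (U : Set G) := by
  refine iSup₂_le fun u hu q hq => ?_
  simp only [Set.mem_sdiff, SetLike.mem_coe, Set.mem_singleton_iff] at hu
  rw [Subgroup.mem_normalizer_iff]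
  refine fun v => ⟨fun hv => conj_mem_of_core S hU hu.1 hu.2 hq hv, fun hv => ?_⟩
  have h := conj_mem_of_core S hU hu.1 hu.2 (inv_mem hq) hv
  have he : q⁻¹ * (q * v * q⁻¹) * q⁻¹⁻¹ = v := by group
  rwa [he] at h

/-- The core at `u` contains an element moving a given point and fixing a subgroup. -/
theorem exists_transvection {u : G} (hu : u ∈ U) (h1 : u ≠ 1) {W : Subgroup G} (hWU : W ≤ U)
    (huW : u ∈ W) {a : G} (haU : a ∈ Q u) (ha : a ∉ W) :
    ∃ q ∈ Q u, q * a * q⁻¹ = u * a ∧ ∀ w ∈ W, q * w * q⁻¹ = w := by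
  have hg := gen_conj S (hU.conj u hu h1)
  have hWQ : W ≤ Q u := hWU.trans (le_core S hU hu h1)
  have hcc := centralizer_centralizer hg huW hWQ
  have : a ∉ Q u ⊓ Subgroup.centralizer ((Q u ⊓ Subgroup.centralizer (W : Set G) : Subgroup G) : Set G) := by
    rw [hcc]; exact ha
  obtain ⟨q, hq, hqa⟩ : ∃ q ∈ Q u ⊓ Subgroup.centralizer (W : Set G), q * a ≠ a * q := by
    by_contra hall
    simp only [not_exists, not_and, not_not] at hall
    exact this ⟨haU, Subgroup.mem_centralizer_iff.2 hall⟩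
  refine ⟨q, hq.1, ?_, fun w hw => ?_⟩
  · rcases conj_eq hg hq.1 haU with e | e
    · exact absurd (mul_inv_eq_iff_eq_mul.1 e) hqa
    · exact e
  · rw [← Subgroup.mem_centralizer_iff.1 hq.2 w hw, mul_inv_cancel_right]

/-- The join induces every automorphism. -/
theorem exists_induces (φ : U ≃* U) : ∀ W : Subgroup U,
    (∃ g ∈ (⨆ u ∈ ((U : Set G) \ {1}), Q u), ∀ w ∈ W, g * (w : G) * g⁻¹ = (φ w : G)) →
    ∃ g ∈ (⨆ u ∈ ((U : Set G) \ {1}), Q u), ∀ w : U, g * (w : G) * g⁻¹ = (φ w : G) := by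
  intro W
  induction h : Nat.card U - Nat.card W using Nat.strong_induction_on generalizing W with
  | _ d ih =>
    rintro ⟨g, hg, hgW⟩
    by_cases htop : W = ⊤
    · exact ⟨g, hg, fun w => hgW w (htop ▸ Subgroup.mem_top w)⟩
    obtain ⟨v, hv⟩ : ∃ v, v ∉ W := by
      by_contra hall
      simp only [not_exists, not_not] at hall
      exact htop ((Subgroup.eq_top_iff' W).2 hall)
    set a := g * (v : G) * g⁻¹ with ha
    set b := (φ v : G) with hb
    have haU : a ∈ U :=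
      (Subgroup.mem_normalizer_iff.1 (join_le_normalizer S hU hg) v).1 v.2
    have hbU : b ∈ U := (φ v).2
    set W' : Subgroup G := (W.map φ.toMonoidHom).map U.subtype with hW'
    have hW'U : W' ≤ U := Subgroup.map_subtype_le _
    have hW'mem : ∀ {y : G}, y ∈ W' → ∃ w ∈ W, (φ w : G) = y := by
      rintro y ⟨_, ⟨w, hw, rfl⟩, rfl⟩
      exact ⟨w, hw, rfl⟩
    have hbW : b ∉ W' := fun hbm => by
      obtain ⟨w, hw, e⟩ := hW'mem hbm
      exact hv (φ.injective (Subtype.ext e) ▸ hw)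
    have haW : a ∉ W' := fun ham => by
      obtain ⟨w, hw, e⟩ := hW'mem ham
      rw [← hgW w hw] at e
      exact hv (Subtype.ext (mul_left_cancel (mul_right_cancel e)) ▸ hw)
    obtain ⟨k, hk, hkv, hkW⟩ : ∃ k ∈ (⨆ u ∈ ((U : Set G) \ {1}), Q u),
        k * (v : G) * k⁻¹ = b ∧ ∀ w ∈ W, k * (w : G) * k⁻¹ = (φ w : G) := by
      by_cases hab : a = b
      · exact ⟨g, hg, hab, hgW⟩
      set u := b * a⁻¹ with hu
      have huU : u ∈ U := mul_mem hbU (inv_mem haU)
      have hu1 : u ≠ 1 := fun e => hab (mul_inv_eq_one.1 e).symm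
      set W'' : Subgroup G := W' ⊔ Subgroup.zpowers u with hW''
      have hW''U : W'' ≤ U := sup_le hW'U (Subgroup.zpowers_le.2 huU)
      have hcomm : ∀ s ∈ U, ∀ t ∈ U, s * t = t * s := by
        intro s hs t ht
        have h := hU.sq _ (mul_mem hs ht)
        calc s * t = (s * t)⁻¹ := eq_inv_of_mul_eq_one_left h
          _ = t⁻¹ * s⁻¹ := mul_inv_rev s t
          _ = t * s := by
            rw [inv_eq_of_mul_eq_one_right (hU.sq t ht), inv_eq_of_mul_eq_one_right (hU.sq s hs)]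
      let T : Subgroup G :=
        { carrier := {y | y ∈ U ∧ ∃ w ∈ W', y = w ∨ y = w * u}
          one_mem' := ⟨one_mem _, 1, one_mem _, Or.inl rfl⟩
          mul_mem' := by
            rintro s t ⟨hs, w, hw, e⟩ ⟨ht, w', hw', e'⟩
            refine ⟨mul_mem hs ht, w * w', mul_mem hw hw', ?_⟩
            rcases e with e | e <;> rcases e' with e' | e' <;> rw [e, e']
            · exact Or.inl rfl
            · exact Or.inr (mul_assoc _ _ _).symm
            · right; rw [mul_assoc, hcomm u huU w' (hW'U hw'), mul_assoc]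
            · left
              rw [mul_assoc, ← mul_assoc u w' u, hcomm u huU w' (hW'U hw'), mul_assoc w' u u,
                hU.sq u huU, mul_one]
          inv_mem' := by
            rintro s ⟨hs, h⟩
            rw [inv_eq_of_mul_eq_one_right (hU.sq s hs)]
            exact ⟨hs, h⟩ }
      have haT : a ∉ W'' := fun ham => by
        have hle : W'' ≤ T := sup_le (fun y hy => ⟨hW'U hy, y, hy, Or.inl rfl⟩)
          (Subgroup.zpowers_le.2 ⟨huU, 1, one_mem _, Or.inr (one_mul u).symm⟩)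
        obtain ⟨-, w, hw, e | e⟩ := hle ham
        · exact haW (e ▸ hw)
        · refine hbW ?_
          have : b = w := by
            calc b = u * a := by rw [hu, inv_mul_cancel_right]
              _ = a * u := hcomm u huU a haU
              _ = w * (u * u) := by rw [e, mul_assoc]
              _ = w := by rw [hU.sq u huU, mul_one]
          exact this ▸ hw
      obtain ⟨q, hq, hqa, hqW⟩ := exists_transvection S hU huU hu1 hW''U
        (le_sup_right (a := W') (Subgroup.mem_zpowers u)) (le_core S hU huU hu1 haU) haT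
      refine ⟨q * g, mul_mem (core_le_join huU hu1 hq) hg, ?_, fun w hw => ?_⟩
      · calc q * g * (v : G) * (q * g)⁻¹ = q * a * q⁻¹ := by rw [ha]; group
          _ = b := by rw [hqa, hu, inv_mul_cancel_right]
      · calc q * g * (w : G) * (q * g)⁻¹ = q * (g * (w : G) * g⁻¹) * q⁻¹ := by group
          _ = (φ w : G) := by
            rw [hgW w hw]
            exact hqW _ (le_sup_left (b := Subgroup.zpowers u) ⟨_, ⟨w, hw, rfl⟩, rfl⟩)
    have hlt : W < W ⊔ Subgroup.zpowers v :=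
      lt_of_le_of_ne le_sup_left fun e => hv (e ▸ le_sup_right (a := W) (Subgroup.mem_zpowers v))
    have hcard : Nat.card W < Nat.card ↥(W ⊔ Subgroup.zpowers v) := by
      by_contra hle
      exact hlt.ne (Subgroup.eq_of_le_of_card_ge hlt.le (not_lt.1 hle))
    have hle2 : Nat.card ↥(W ⊔ Subgroup.zpowers v) ≤ Nat.card U := Subgroup.card_le_card_group _
    refine ih (Nat.card U - Nat.card ↥(W ⊔ Subgroup.zpowers v)) (by omega) _ rfl ⟨k, hk, ?_⟩
    intro w hw
    have heq : W ⊔ Subgroup.zpowers v ≤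
        MonoidHom.eqLocus ((MulAut.conj k).toMonoidHom.comp U.subtype)
          (U.subtype.comp φ.toMonoidHom) :=
      sup_le (fun y hy => hkW y hy) (Subgroup.zpowers_le.2 hkv)
    exact heq hw

theorem induces_all (φ : U ≃* U) :
    ∃ g ∈ (⨆ u ∈ ((U : Set G) \ {1}), Q u), ∀ w : U, g * (w : G) * g⁻¹ = (φ w : G) := by
  refine exists_induces S hU φ ⊥ ⟨1, one_mem _, fun w hw => ?_⟩
  rw [Subgroup.mem_bot] at hw
  subst hw
  simp

theorem commutator_mem {g x : G} (hg : g ∈ ⨆ u ∈ ((U : Set G) \ {1}), Q u)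
    (hx : x ∈ ⨅ u ∈ ((U : Set G) \ {1}), Q u) : g * x * g⁻¹ * x⁻¹ ∈ U := by
  let K : Subgroup G :=
    { carrier := {k | k ∈ Subgroup.normalizer (U : Set G) ∧
        ∀ y ∈ (⨅ u ∈ ((U : Set G) \ {1}), Q u), k * y * k⁻¹ * y⁻¹ ∈ U}
      one_mem' := ⟨one_mem _, fun y _ => by simp⟩
      mul_mem' := by
        rintro a b ⟨ha, ha'⟩ ⟨hb, hb'⟩
        refine ⟨mul_mem ha hb, fun y hy => ?_⟩
        have : a * b * y * (a * b)⁻¹ * y⁻¹ =
            (a * (b * y * b⁻¹ * y⁻¹) * a⁻¹) * (a * y * a⁻¹ * y⁻¹) := by group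
        rw [this]
        exact mul_mem ((Subgroup.mem_normalizer_iff.1 ha _).1 (hb' y hy)) (ha' y hy)
      inv_mem' := by
        rintro a ⟨ha, ha'⟩
        refine ⟨inv_mem ha, fun y hy => ?_⟩
        have : a⁻¹ * y * a⁻¹⁻¹ * y⁻¹ = a⁻¹ * (a * y * a⁻¹ * y⁻¹)⁻¹ * a⁻¹⁻¹ := by group
        rw [this]
        exact (Subgroup.mem_normalizer_iff.1 (inv_mem ha) _).1 (inv_mem (ha' y hy)) }
  have hle : (⨆ u ∈ ((U : Set G) \ {1}), Q u) ≤ K := iSup₂_le fun u hu q hq => by
    have hqj : q ∈ ⨆ u ∈ ((U : Set G) \ {1}), Q u :=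
      (le_iSup₂ (f := fun w (_ : w ∈ (U : Set G) \ {1}) => Q w) u hu) hq
    simp only [Set.mem_sdiff, SetLike.mem_coe, Set.mem_singleton_iff] at hu
    refine ⟨join_le_normalizer S hU hqj, fun y hy => ?_⟩
    rcases (gen_conj S (hU.conj u hu.1 hu.2)).comm q hq y (mem_meet.1 hy u hu.1 hu.2) with e | e <;>
      rw [e]
    exacts [one_mem _, hu.1]
  exact (hle hg).2 x hx

theorem exists_shift {x : G} (hx : x ∈ ⨅ u ∈ ((U : Set G) \ {1}), Q u) (hxU : x ∉ U) {u : G}
    (hu : u ∈ U) :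
    ∃ g ∈ (⨆ u ∈ ((U : Set G) \ {1}), Q u) ⊓ Subgroup.centralizer (U : Set G),
      g * x * g⁻¹ = x * u := by
  by_cases h1 : u = 1
  · exact ⟨1, one_mem _, by simp [h1]⟩
  have hxQ := mem_meet.1 hx u hu h1
  obtain ⟨q, hq, hqx, hqU⟩ := exists_transvection S hU hu h1 le_rfl hu hxQ hxU
  refine ⟨q, ⟨core_le_join hu h1 hq, Subgroup.mem_centralizer_iff.2 fun w hw => ?_⟩, ?_⟩
  · exact (mul_inv_eq_iff_eq_mul.1 (hqU w hw)).symm
  · rw [hqx]; exact (comm_of_mem S hxQ).symm

theorem meet_eq_of_closure {T : Set G} (hT : Subgroup.closure T = U) (hT1 : (1 : G) ∉ T) :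
    (⨅ u ∈ ((U : Set G) \ {1}), Q u) = ⨅ t ∈ T, Q t := by
  have hTU : ∀ t ∈ T, t ∈ U := fun t ht => hT ▸ Subgroup.subset_closure ht
  refine le_antisymm (le_iInf₂ fun t ht x hx =>
    mem_meet.1 hx t (hTU t ht) fun e => hT1 (e ▸ ht)) fun x hx => mem_meet.2 fun u hu => ?_
  simp only [Subgroup.mem_iInf] at hx
  rw [← hT] at hu
  suffices h : u ∈ U ∧ (u ≠ 1 → x ∈ Q u) from h.2
  induction hu using Subgroup.closure_induction with
  | mem t ht => exact ⟨hTU t ht, fun _ => hx t ht⟩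
  | one => exact ⟨one_mem _, fun h => absurd rfl h⟩
  | inv a _ ha => rw [inv_eq_of_mul_eq_one_right (hU.sq a ha.1)]; exact ha
  | mul a b _ _ ha hb =>
    refine ⟨mul_mem ha.1 hb.1, fun hab => ?_⟩
    by_cases ha1 : a = 1
    · rw [ha1, one_mul] at hab ⊢; exact hb.2 hab
    by_cases hb1 : b = 1
    · rw [hb1, mul_one] at hab ⊢; exact ha.2 hab
    have hxb := hb.2 hb1
    have hgb := gen_conj S (hU.conj b hb.1 hb1)
    have hne : a ≠ b := fun e => hab (by rw [e]; exact hU.sq b hb.1)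
    obtain ⟨q, hq, hqa⟩ := exists_conj_mul hgb (hU.orth b hb.1 a ha.1 hb1 ha1) ha1 hne
    have hqx : q * x * q⁻¹ ∈ Q (a * b) := by
      rw [← hqa]; exact (conj_mem_iff S q a x).2 (ha.2 ha1)
    rcases conj_eq hgb hq hxb with e | e <;> rw [e] at hqx
    · exact hqx
    · have hbm : b ∈ Q (a * b) := hU.orth _ (mul_mem ha.1 hb.1) b hb.1 hab hb1
      have h2 := mul_mem (inv_mem hbm) hqx
      rwa [inv_mul_cancel_left] at h2

end CfsgLib.Singular
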